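import Cfsg.Agent.H826.RgF.Glue
import Cfsg.Agent.H522.Rg.YSec

/-!
# S3691, plus type, `m` even, `r_(m-1)` in the factor with `r_(2m-4)` (helper128, for helper826)

* `me_y1_of` : the contradiction from `not_both_rd` (helper383), `beta_X` (helper920), `y1_sec` (helper522)
-/

set_option autoImplicit false
set_option linter.unusedSectionVars false

namespace Cfsg.Agent.H128.Rg

open Module QuadraticMap Cfsg Cfsg.Geo Cfsg.Agent.LieClassical.OrthCore Cfsg.Agent.LieClassical.OrthTrans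
  Cfsg.Agent.H454.Reg Cfsg.Agent.H449.Reg Cfsg.Agent.H955 Cfsg.Agent.H954.TSing Cfsg.Agent.H884.El
open Cfsg.Agent.H951 (fx cm Inv)
open Cfsg.Agent.H826.Rg (preE mem_preE preE_le_E preE_le_O mem_preE_iff mem_preE_iff' card_preE)
open Cfsg.Agent.H964.Rg (ResV ResP Cx)
open Cfsg.Agent.H826.RgF
open Cfsg.Agent.LieClassical.OrthFinite (glEquiv)
open scoped MatrixGroups Matrix

universe u

variable {ι : Type} [Fintype ι] [DecidableEq ι] {F : Type} [Field F] [Fintype F] {Q : QuadraticForm F (ι → F)}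
variable {G : Type u} [Group G] [Finite G] {T : Subgroup G} [T.Normal] {hG : Good Q} {eT : T ≃* POmega F (⇑Q)}
  {hI : Ind (eP hG eT)} {X Y : Subgroup G} {p f m : ℕ}

/-- a prime divisor of `gcd (2 m) (2 m - c)`, `c ∣ 4`, is two -/
theorem eq_two_of_gcd {m k s : ℕ} (hs : s.Prime) (hk : 2 * m = k + 4 ∨ 2 * m = k + 2) (h : s ∣ Nat.gcd (2 * m) k) : s = 2 := by
  have h1 : s ∣ 2 * m := h.trans (Nat.gcd_dvd_left _ _)
  have h2 : s ∣ k := h.trans (Nat.gcd_dvd_right _ _)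
  rcases hk with hk | hk
  · rw [hk] at h1
    have h3 : s ∣ 4 := (Nat.dvd_add_right h2).1 h1
    have h4 : s ∣ 2 ^ 2 := h3
    exact (Nat.prime_dvd_prime_iff_eq hs Nat.prime_two).1 (hs.dvd_of_dvd_pow h4)
  · rw [hk] at h1
    exact (Nat.prime_dvd_prime_iff_eq hs Nat.prime_two).1 ((Nat.dvd_add_right h2).1 h1)

/-- **`m` even, `r_(2m-2)` in `X`, `r_(2m-4)` and `r_(m-1)` in `Y`** -/
theorem me_y1_of (h : Cx hI X Y p f m (2 * m - 2)) (e : Nonempty (T ≃* POmega F (quadFormPlus m F))) (hm : 6 ≤ m)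
    (he : Even m) (hq : m = 6 → 2 < p ^ f) {r2 i r4 j w b c : ℕ} (hD : DEv F p f m r2 i r4 j w b c)
    (h2 : r2 ^ i ∣ Nat.card (X.subgroupOf T)) (h4 : r4 ^ j ∣ Nat.card (Y.subgroupOf T)) (hw : w ∣ Nat.card (Y.subgroupOf T))
    (hNB : r2 ∣ Nat.card (X.subgroupOf T) → r4 ∣ Nat.card (Y.subgroupOf T) → Rd (preE (eP hG eT) X) →
      Rd (preE (eP hG eT) Y) → False)
    (hBX : r4 ∣ Nat.card (Y.subgroupOf T) → Rd (preE (eP hG eT) Y) →
      (b.Prime ∧ 30 < b ∧ b ∣ (p ^ f) ^ m - 1 ∧ f = 1 ∧ p ≤ 3 ∧ m = 10) → b ∣ Nat.card (preE (eP hG eT) X))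
    (hY1 : El (preE (eP hG eT) Y) (r4 ^ j) → El (preE (eP hG eT) Y) w → ¬ r2 ∣ Nat.card (preE (eP hG eT) Y) →
      Rd (preE (eP hG eT) Y) → ∀ t, PP (Nat.card F) (2 * m - 6) t → t ∣ Nat.card (preE (eP hG eT) Y)) : False := by
  have hQ : Nondeg Q := hG.nondeg
  have hn := h.finrank_V
  have dc := hD.ev.dc
  have hr2q : PP (Nat.card F) (2 * m - 2) r2 := h.pp dc.pp2
  have hr4q : PP (Nat.card F) (2 * m - 4) r4 := h.pp dc.pp4
  have hwq : PP (Nat.card F) (m - 1) w := h.pp hD.ev.ppw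
  have h2' : r2 ∣ Nat.card (X.subgroupOf T) := (dvd_pow_self r2 (by have := dc.pos2; omega)).trans h2
  have h4' : r4 ∣ Nat.card (Y.subgroupOf T) := (dvd_pow_self r4 (by have := dc.pos4; omega)).trans h4
  have eA2 : El (preE (eP hG eT) X) (r2 ^ i) := el_preE h dc.pp2 (by omega) (by omega) h2
  have eB4 : El (preE (eP hG eT) Y) (r4 ^ j) := el_preE h.symm dc.pp4 (by omega) (by omega) h4
  have eBw : El (preE (eP hG eT) Y) w := el_prime hD.ev.ppw.prime hw
  have hodd : Odd (m - 1) := by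
    obtain ⟨a, ha⟩ := he
    exact ⟨a - 1, by omega⟩
  have hr2lt := hr2q.lt (by omega)
  have hr4lt := hr4q.lt (by omega)
  have hrB : Rd (preE (eP hG eT) Y) := by
    rcases hD.ev.lo4 hQ hn (preE (eP hG eT) Y) preE_le_O eB4 eBw with h1 | ⟨s, hs, hsd, hK⟩ | h1
    · exact h1
    · exfalso
      have hs2 : s = 2 := eq_two_of_gcd hs (Or.inl (by omega)) hsd
      subst hs2
      exact H522.Rg.o_not_two_odd hQ preE_le_O hwq hodd (by omega) (by rw [hn]; omega) eBw.dvd hK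
    · exact (not_E_le h.fac.not_le_right h1).elim
  have hrA : ¬ Rd (preE (eP hG eT) X) := fun hA => hNB h2' h4' hA hrB
  have eAb : El (preE (eP hG eT) X) b := by
    rcases hD.ev.hb with rfl | hb
    · exact ⟨1, one_mem _, orderOf_one⟩
    · exact el_of_dvd hb.1 (hBX h4' hrB hb)
  have hK : AExt 2 (preE (eP hG eT) X) := by
    rcases hD.ev.lob hQ hn (preE (eP hG eT) X) preE_le_O eA2 eAb with h1 | ⟨s, hs, hsd, hK⟩ | h1
    · exact (hrA h1).elim
    · have hs2 : s = 2 := eq_two_of_gcd hs (Or.inr (by omega)) hsd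
      subst hs2
      exact hK
    · exact (not_E_le h.fac.not_le_left h1).elim
  have hr4A : ¬ r4 ∣ Nat.card (preE (eP hG eT) X) := fun h5 =>
    h.not_both hr4q (by omega) (by omega) ((dvd_preE_iff dc.pp4.prime (by omega)).1 h5) h4'
  have hr2B : ¬ r2 ∣ Nat.card (preE (eP hG eT) Y) := fun h5 =>
    h.not_both hr2q (by omega) (by omega) h2' ((dvd_preE_iff dc.pp2.prime (by omega)).1 h5)
  have hB := hY1 eB4 eBw hr2B hrB
  rcases lt_or_ge m 8 with hm8 | hm8
  · obtain rfl : m = 6 := by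
      obtain ⟨a, ha⟩ := he
      omega
    rcases hD.ev.kx6 rfl hQ hn (preE (eP hG eT) X) preE_le_O hrA hK eA2 with h6 | h6
    · exact hr4A (h6 r4 hr4q)
    · have hf := h.pos
      obtain ⟨t, ht⟩ := exists_pp (q := p) (e := f * 6) h.prime.two_le (by omega) (fun h7 => by
        have h8 : f = 1 := by omega
        have h9 := hq rfl
        rw [h7.1, h8] at h9
        omega)
      have htq : PP (Nat.card F) 6 t := h.pp ht
      have htlt := htq.lt (by omega)
      have hA6 := h6 t (((p ^ f) ^ 6 - 1).factorization t) htq (by rw [h.card]; exact Nat.ordProj_dvd _ _)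
      have hfE : Finite ((ι → F) ≃ₗ[F] (ι → F)) :=
        Finite.of_injective (fun e : (ι → F) ≃ₗ[F] (ι → F) => (e : (ι → F) → (ι → F))) DFunLike.coe_injective
      have hA0 : Nat.card (preE (eP hG eT) X) ≠ 0 := Nat.card_pos.ne'
      rw [ht.prime.pow_dvd_iff_le_factorization hA0, ← fac_preE' (e := eP hG eT) (X := X) ht.prime (by omega) hG] at hA6
      have hBt : t ∣ Nat.card (Y.subgroupOf T) := (dvd_preE_iff ht.prime (by omega)).1 (hB t htq)
      have hY0 : 0 < (Nat.card (Y.subgroupOf T)).factorization t :=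
        ht.prime.factorization_pos_of_dvd Nat.card_pos.ne' hBt
      have hv := h.fac.val_eq (h.out 6 t (by norm_num) ht)
      have h70 := H859.Rg.plus_six h.prime h.pos h.fcard ht e
      omega
  · rcases hD.ev.kx hm8 hQ hn (preE (eP hG eT) X) preE_le_O hrA hK eA2 eAb with h6 | h6
    · exact hr4A (h6 r4 hr4q)
    · have h10 : 10 ≤ 2 * m - 6 := by omega
      have hf10 : 10 ≤ f * (2 * m - 6) := le_trans h10 (Nat.le_mul_of_pos_left _ h.pos)
      obtain ⟨t, ht⟩ := exists_pp (q := p) (e := f * (2 * m - 6)) h.prime.two_le (by omega) (fun h7 => by omega)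
      have htq : PP (Nat.card F) (2 * m - 6) t := h.pp ht
      have htlt := htq.lt (by omega)
      have hAt : t ∣ Nat.card (X.subgroupOf T) := (dvd_preE_iff ht.prime (by omega)).1 (h6 t htq)
      have hBt : t ∣ Nat.card (Y.subgroupOf T) := (dvd_preE_iff ht.prime (by omega)).1 (hB t htq)
      exact h.not_both htq (by omega) (by omega) hAt hBt

/-- the same with `y1_sec` (helper522) -/
theorem me_y1_of' (h : Cx hI X Y p f m (2 * m - 2)) (e : Nonempty (T ≃* POmega F (quadFormPlus m F))) (hP : IsPlus Q) (hm : 6 ≤ m)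
    (he : Even m) (hq : m = 6 → 2 < p ^ f) {r2 i r4 j w b c : ℕ} (hD : DEv F p f m r2 i r4 j w b c)
    (h2 : r2 ^ i ∣ Nat.card (X.subgroupOf T)) (h4 : r4 ^ j ∣ Nat.card (Y.subgroupOf T)) (hw : w ∣ Nat.card (Y.subgroupOf T))
    (hNB : r2 ∣ Nat.card (X.subgroupOf T) → r4 ∣ Nat.card (Y.subgroupOf T) → Rd (preE (eP hG eT) X) →
      Rd (preE (eP hG eT) Y) → False)
    (hBX : r4 ∣ Nat.card (Y.subgroupOf T) → Rd (preE (eP hG eT) Y) →
      (b.Prime ∧ 30 < b ∧ b ∣ (p ^ f) ^ m - 1 ∧ f = 1 ∧ p ≤ 3 ∧ m = 10) → b ∣ Nat.card (preE (eP hG eT) X)) : False :=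
  me_y1_of h e hm he hq hD h2 h4 hw hNB hBX fun h5 h6 h7 h8 =>
    H522.Rg.y1_sec hG.nondeg h.finrank_V he hm hP preE_le_O (h.pp hD.ev.dc.pp4) rfl hD.ev.dc.pos4 h5 (h.pp hD.ev.ppw) h6
      (h.pp hD.ev.dc.pp2) h7 hD.lo4a hD.lo4b hD.ls4 h8

end Cfsg.Agent.H128.Rg
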