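import Cfsg.Agent.H128.Rg.PlusY1
import Cfsg.Agent.H308.Rg.NotBoth
import Cfsg.Agent.H920.Rg.BetaX

/-!
# S3691, plus type, `m` even, `r_(m-1)` in the factor with `r_(2m-4)` (helper128, for helper826)

* `me_y1` : the box, no open hypotheses
-/

set_option autoImplicit false
set_option linter.unusedSectionVars false

namespace Cfsg.Agent.H128.Rg

open Module QuadraticMap Cfsg Cfsg.Geo Cfsg.Agent.LieClassical.OrthCore Cfsg.Agent.LieClassical.OrthTrans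
  Cfsg.Agent.H454.Reg Cfsg.Agent.H449.Reg Cfsg.Agent.H955 Cfsg.Agent.H954.TSing Cfsg.Agent.H884.El
open Cfsg.Agent.H826.Rg (preE)
open Cfsg.Agent.H964.Rg (ResV ResP Cx)
open Cfsg.Agent.H826.RgF
open scoped MatrixGroups Matrix

universe u

variable {ι : Type} [Fintype ι] [DecidableEq ι] {F : Type} [Field F] [Fintype F] {Q : QuadraticForm F (ι → F)}
variable {G : Type u} [Group G] [Finite G] {T : Subgroup G} [T.Normal] {hG : Good Q} {eT : T ≃* POmega F (⇑Q)}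
  {hI : Ind (eP hG eT)} {X Y : Subgroup G} {p f m : ℕ}

theorem me_y1 (h : Cx hI X Y p f m (2 * m - 2)) (e : Nonempty (T ≃* POmega F (quadFormPlus m F))) (hP : IsPlus Q) (hm : 6 ≤ m)
    (he : Even m) (hq : m = 6 → 2 < p ^ f) {r2 i r4 j w b c : ℕ} (hD : DEv F p f m r2 i r4 j w b c)
    (h2 : r2 ^ i ∣ Nat.card (X.subgroupOf T)) (h4 : r4 ^ j ∣ Nat.card (Y.subgroupOf T)) (hw : w ∣ Nat.card (Y.subgroupOf T)) :
    False :=
  me_y1_of' h e hP hm he hq hD h2 h4 hw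
    (fun h5 h6 h7 h8 => H308.Rg.not_both_rd h hP (by omega) hD.ev.dc.pp2 hD.ev.dc.pp4 h5 h6 h7 h8)
    (fun h5 h6 h7 => H920.Rg.beta_X h hP hD.ev.dc.pp4 h5 hD.ev.ppw hw h6 h7)

end Cfsg.Agent.H128.Rg
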