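import Cfsg.Agent.H128.Rg.SpAbs
import Cfsg.Agent.H2.Rb.Ref

/-!
# S3691: helper2's refined single cases (`small_ref`) for quadratic and symplectic spaces (helper128)

* `og_core`, `sp_core` : matrices, from the five cases of the core;
* `ref_abs` : a quadratic space, `H ≤ O Q`;
* `ref_sp` : `H` preserves the polar form, characteristic two.
-/

set_option autoImplicit false
set_option linter.unusedSectionVars false

namespace Cfsg.Agent.H128.Rg

open Module QuadraticMap Cfsg Cfsg.Geo Matrix Cfsg.Agent.LieClassical.OrthCore Cfsg.Agent.LieClassical.OrthTrans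
  Cfsg.Agent.H955 Cfsg.Agent.H954.TSing Cfsg.Agent.H884.El Cfsg.Agent.H278.Cov Cfsg.Agent.H449.Reg
  Cfsg.Agent.H929 Cfsg.Agent.H873 Cfsg.Agent.H89.Cov
open Cfsg.Agent.LieClassical.OrthFinite (glEquiv glEquiv_apply)
open scoped MatrixGroups

universe u v

section Mat

variable {ι : Type} [Fintype ι] [DecidableEq ι] {F : Type u} [Field F]

/-- the five cases of the core -/
def Five (d : ℕ) (H : Subgroup (GL ι F)) : Prop :=
  Ext d H ∨ specialLinear ι F ≤ H ∨
    (∃ f : (ι → F) → (ι → F) → F, IsSymplecticForm f ∧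
        ∀ x : GL ι F, FixesForm {(x : Matrix ι ι F)} f → x ∈ H) ∨
    (∃ (τ : F ≃+* F) (f : (ι → F) → (ι → F) → F), IsUnitaryForm τ f ∧
        ∀ x : GL ι F, FixesForm {(x : Matrix ι ι F)} f → Matrix.GeneralLinearGroup.det x = 1 → x ∈ H) ∨
    (∃ Q : (ι → F) → F, IsNondegenerateQuadraticForm Q ∧ omegaGL Q ≤ H)

theorem og_core [Fintype F] {d : ℕ} (hten : 10 ≤ Fintype.card ι) {Q : (ι → F) → F} (hQ : IsNondegenerateQuadraticForm Q)
    {H : Subgroup (GL ι F)} (hmem : ∀ x ∈ H, ∀ v, Q ((x : Matrix ι ι F) *ᵥ v) = Q v) (h5 : Five d H) :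
    Ext d H ∨ omegaGL Q ≤ H := by
  have hone : Nonempty ι := Fintype.card_pos_iff.1 (by omega)
  rcases h5 with h | h | ⟨f', hf', h⟩ | ⟨τ, f', hf', h⟩ | ⟨Q', hQ', h⟩
  · exact Or.inl h
  · exfalso
    refine H905.not_sl_le_quadSimilarityGroup (by omega) hQ fun x hx => ?_
    exact ⟨1, fun v => by rw [Units.val_one, one_mul]; exact hmem x (h hx) v⟩
  · exact (H558.Cov.symp_quad_false (by omega) hQ hf' fun x hx => hmem x (h x hx)).elim
  · exact (H558.Cov.unit_quad_false (by omega) hQ hf' fun x hx hd => hmem x (h x hx hd)).elim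
  · right
    have h1 : FixesQuadForm (matrixSet (omegaGL Q')) Q := by
      rintro _ ⟨x, hx, rfl⟩ v
      exact hmem x (h hx) v
    obtain ⟨c, hc, h2⟩ := H925.Nat.quad_prop (H925.Nat.omegaGL_absIrr hQ' (by omega)) hQ' hQ (H925.Nat.omegaGL_fixes Q') h1
    have h3 : omegaGL Q = omegaGL Q' := H925.Nat.omegaGL_smul hc h2
    rw [h3]
    exact h

theorem sp_core [Fintype F] (h2 : (2 : F) = 0) {d : ℕ} (hten : 10 ≤ Fintype.card ι) {Q : (ι → F) → F}
    (hQ : IsNondegenerateQuadraticForm Q) {H : Subgroup (GL ι F)}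
    (hmem : ∀ x ∈ H, ∀ u v, polar Q ((x : Matrix ι ι F) *ᵥ u) ((x : Matrix ι ι F) *ᵥ v) = polar Q u v)
    (h5 : Five d H) :
    Ext d H ∨
      (∀ x : GL ι F, (∀ u v, polar Q ((x : Matrix ι ι F) *ᵥ u) ((x : Matrix ι ι F) *ᵥ v) = polar Q u v) → x ∈ H) ∨
      (∃ Q' : (ι → F) → F, IsNondegenerateQuadraticForm Q' ∧ (∀ u v, polar Q' u v = polar Q u v) ∧ omegaGL Q' ≤ H) := by
  have hone : Nonempty ι := Fintype.card_pos_iff.1 (by omega)
  have hB := symp_polar h2 hQ
  rcases h5 with h | h | ⟨f', hf', h⟩ | ⟨τ, f', hf', h⟩ | ⟨Q', hQ', h⟩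
  · exact Or.inl h
  · exfalso
    refine H905.not_sl_le_similarityGroup_symplectic (by omega) hB fun x hx => ?_
    exact ⟨1, fun u v => by rw [Units.val_one, one_mul]; exact hmem x (h hx) u v⟩
  · right; left
    obtain ⟨c, hc0, hc⟩ := symp_prop hf' hB fun x hx => fixesForm_singleton.2 (hmem x (h x hx))
    intro x hx
    apply h
    rw [fixesForm_singleton]
    intro u v
    have h1 := hx u v
    rw [hc, hc] at h1
    exact mul_left_cancel₀ hc0 h1
  · exact (unit_symp_false (by omega) hB hf' fun x hx hd => fixesForm_singleton.2 (hmem x (h x hx hd))).elim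
  · right; right
    have h1 : FixesForm (matrixSet (omegaGL Q')) (polar Q) := by
      rintro _ ⟨x, hx, rfl⟩ u v
      exact hmem x (h hx) u v
    have h3 : FixesForm (matrixSet (omegaGL Q')) (polar Q') := H914.fixesForm_polar (H925.Nat.omegaGL_fixes Q')
    obtain ⟨c, hc⟩ := H920.form_unique (H925.Nat.omegaGL_absIrr hQ' (by omega)) hQ'.polar_bilinear hQ'.nondegenerate h3
      hQ.polar_bilinear h1
    have hc0 : c ≠ 0 := by
      rintro rfl
      obtain ⟨i⟩ := hone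
      have hne : (Pi.single i 1 : ι → F) ≠ 0 := by
        intro h0
        have := congrFun h0 i
        simp at this
      obtain ⟨⟨x, hx⟩, -⟩ := hQ.nondegenerate _ hne
      exact hx (by rw [hc, zero_mul])
    have hp : ∀ u v, polar (fun v => c * Q' v) u v = c * polar Q' u v := by
      intro u v
      simp only [polar]
      ring
    refine ⟨fun v => c * Q' v, ⟨fun a v => by rw [hQ'.smul]; ring, ⟨?_, ?_, ?_, ?_⟩, ?_⟩, fun u v => by rw [hp, hc], ?_⟩
    · intro x y v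
      rw [hp, hp, hp, hQ'.polar_bilinear.add_left]; ring
    · intro a x v
      rw [hp, hp, hQ'.polar_bilinear.smul_left]; ring
    · intro v x y
      rw [hp, hp, hp, hQ'.polar_bilinear.add_right]; ring
    · intro a v x
      rw [hp, hp, hQ'.polar_bilinear.smul_right]; ring
    · intro v hv
      obtain ⟨⟨x, hx⟩, ⟨y, hy⟩⟩ := hQ'.nondegenerate v hv
      exact ⟨⟨x, by rw [hp]; exact mul_ne_zero hc0 hx⟩, ⟨y, by rw [hp]; exact mul_ne_zero hc0 hy⟩⟩
    · rw [H925.Nat.omegaGL_smul hc0 fun v => rfl]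
      exact h

/-- irreducibility -/
theorem irr_of_not_red {H : Subgroup (GL ι F)} (hirr : ¬ Red H) : ActsIrreducibly (matrixSet H) := by
  intro W hW
  by_contra hcon
  rw [not_or] at hcon
  apply hirr
  have key : ∀ h ∈ H, ∀ w ∈ W, (h : Matrix ι ι F) *ᵥ w ∈ W := by
    intro h hh w hw
    have h2 := hW (h : Matrix ι ι F) ⟨h, hh, rfl⟩ (Submodule.mem_map_of_mem hw)
    rwa [Matrix.toLin'_apply] at h2
  refine ⟨W, hcon.1, hcon.2, ?_⟩
  intro h hh v
  constructor
  · exact key h hh v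
  · intro h1
    have h2 := key h⁻¹ (H.inv_mem hh) ((h : Matrix ι ι F) *ᵥ v) h1
    rw [Matrix.mulVec_mulVec, ← Units.val_mul, inv_mul_cancel, Units.val_one, Matrix.one_mulVec] at h2
    exact h2

theorem refList_ten : ∀ t ∈ H2.Rb.refList, 10 ≤ t.2.1 := by decide

end Mat

section abs

variable {F : Type u} [Field F] [Fintype F] {V : Type v} [AddCommGroup V] [Module F V] [FiniteDimensional F V]
  {Q : QuadraticForm F V} {H : Subgroup (V ≃ₗ[F] V)}

/-- the five cases for `H` in coordinates -/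
theorem five_of (hKS : ∀ (T : Type u) [Group T] [Finite T] [IsSimpleGroup T], IsKnownSimple' T) {q n k r l : ℕ}
    (hm : (q, n, k, r, l) ∈ H2.Rb.refList) (hq : Nat.card F = q) (φ : V ≃ₗ[F] (Fin n → F))
    (hr : r ∣ Nat.card H) (hl : l ∣ Nat.card H) :
    Red (H.map (cj φ).toMonoidHom) ∨ Five (Nat.gcd n k) (H.map (cj φ).toMonoidHom) := by
  by_cases hred : Red (H.map (cj φ).toMonoidHom)
  · exact Or.inl hred
  right
  have hc : Nat.card (H.map (cj φ).toMonoidHom) = Nat.card H := Subgroup.card_map_of_injective (cj φ).injective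
  rcases H2.Rb.small_ref hKS hm hq _ (by rw [hc]; exact hr) (by rw [hc]; exact hl) (irr_of_not_red hred) with
    ⟨s, E, h1, h2, h3, h4⟩ | h | h | h | h
  · exact Or.inl ⟨s, E, h1, h2, h3, h4⟩
  · exact Or.inr (Or.inl h)
  · exact Or.inr (Or.inr (Or.inl h))
  · exact Or.inr (Or.inr (Or.inr (Or.inl h)))
  · exact Or.inr (Or.inr (Or.inr (Or.inr h)))

/-- reducibility in coordinates -/
theorem red_abs {n : ℕ} (φ : V ≃ₗ[F] (Fin n → F)) (h : Red (H.map (cj φ).toMonoidHom)) :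
    ∃ W : Submodule F V, W ≠ ⊥ ∧ W ≠ ⊤ ∧ ∀ h ∈ H, ∀ w ∈ W, h w ∈ W := by
  obtain ⟨W, hW0, hW1, hW⟩ := h
  refine ⟨W.comap (φ : V →ₗ[F] (Fin n → F)), ?_, ?_, ?_⟩
  · intro h0
    apply hW0
    rw [Submodule.eq_bot_iff]
    intro w hw
    have : φ.symm w ∈ W.comap (φ : V →ₗ[F] (Fin n → F)) := by
      change φ (φ.symm w) ∈ W
      rwa [φ.apply_symm_apply]
    rw [h0, Submodule.mem_bot] at this
    rw [← φ.apply_symm_apply w, this, map_zero]
  · intro h0
    apply hW1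
    rw [eq_top_iff]
    intro w _
    have : φ.symm w ∈ W.comap (φ : V →ₗ[F] (Fin n → F)) := by rw [h0]; trivial
    have h1 : φ (φ.symm w) ∈ W := this
    rwa [φ.apply_symm_apply] at h1
  · intro h hh w hw
    have h1 : cj φ h ∈ subspaceStabilizer W := hW ⟨h, hh, rfl⟩
    have h2 : (cj φ h : Matrix (Fin n) (Fin n) F) *ᵥ φ w ∈ W := (h1 (φ w)).1 hw
    rw [cj_apply'] at h2
    exact h2

/-- **(R1a)** helper2's refined single cases for a quadratic space -/
theorem ref_abs (hKS : ∀ (T : Type u) [Group T] [Finite T] [IsSimpleGroup T], IsKnownSimple' T) (hQ : Nondeg Q)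
    (hH : H ≤ O Q) {q n k r l : ℕ} (hm : (q, n, k, r, l) ∈ H2.Rb.refList) (hq : Nat.card F = q) (hn : finrank F V = n)
    (hr : r ∣ Nat.card H) (hl : l ∣ Nat.card H) :
    (∃ W : Submodule F V, W ≠ ⊥ ∧ W ≠ ⊤ ∧ ∀ h ∈ H, ∀ w ∈ W, h w ∈ W) ∨
    (∃ s, s.Prime ∧ s ∣ Nat.gcd n k ∧ AExt s H) ∨ E Q ≤ H := by
  have hten : 10 ≤ n := refList_ten _ hm
  let φ : V ≃ₗ[F] (Fin n → F) :=
    LinearEquiv.ofFinrankEq _ _ (by rw [Module.finrank_fintype_fun_eq_card, Fintype.card_fin, hn])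
  have hQ'' := H884.OddForm.isNondegenerate_of_nondeg _ (nondeg_tq hQ φ)
  rcases five_of hKS hm hq φ hr hl with h | h
  · exact Or.inl (red_abs φ h)
  right
  rcases og_core (by rw [Fintype.card_fin]; exact hten) hQ'' (by
    rintro _ ⟨x, hx, rfl⟩
    exact LieClassical.OrthFinite.mem_isometryGroup_iff.1 (cj_iso φ (hH hx))) h with ⟨s, K, hs, hsd, hK, hle⟩ | h
  · exact Or.inl ⟨s, hs, hsd, n, φ, K, hs, hK, hle⟩
  · exact Or.inr (E_le_of φ (by rw [Fintype.card_fin]; omega) hQ'' h)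

/-- **(R1b)** the same for groups preserving the polar form, characteristic 2 -/
theorem ref_sp (hKS : ∀ (T : Type u) [Group T] [Finite T] [IsSimpleGroup T], IsKnownSimple' T) (h2 : (2 : F) = 0)
    (hQ : Nondeg Q) (hH : ∀ h ∈ H, ∀ u v, polar Q (h u) (h v) = polar Q u v)
    {q n k r l : ℕ} (hm : (q, n, k, r, l) ∈ H2.Rb.refList) (hq : Nat.card F = q) (hn : finrank F V = n)
    (hr : r ∣ Nat.card H) (hl : l ∣ Nat.card H) :
    (∃ W : Submodule F V, W ≠ ⊥ ∧ W ≠ ⊤ ∧ ∀ h ∈ H, ∀ w ∈ W, h w ∈ W) ∨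
    (∃ s, s.Prime ∧ s ∣ Nat.gcd n k ∧ AExt s H) ∨
    (∀ x : V ≃ₗ[F] V, (∀ u v, polar Q (x u) (x v) = polar Q u v) → x ∈ H) ∨
    (∃ Q' : QuadraticForm F V, (∀ u v, polar Q' u v = polar Q u v) ∧ E Q' ≤ H) := by
  have hten : 10 ≤ n := refList_ten _ hm
  let φ : V ≃ₗ[F] (Fin n → F) :=
    LinearEquiv.ofFinrankEq _ _ (by rw [Module.finrank_fintype_fun_eq_card, Fintype.card_fin, hn])
  have hQ'' := H884.OddForm.isNondegenerate_of_nondeg _ (nondeg_tq hQ φ)
  have hpres : ∀ h : V ≃ₗ[F] V, (∀ u v, polar Q (h u) (h v) = polar Q u v) ↔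
      ∀ u v, polar (⇑(tq Q φ)) ((cj φ h : Matrix (Fin n) (Fin n) F) *ᵥ u) ((cj φ h : Matrix (Fin n) (Fin n) F) *ᵥ v) =
        polar (⇑(tq Q φ)) u v := by
    intro h
    constructor
    · intro hh u v
      rw [polar_tq, polar_tq, cj_apply, cj_apply, φ.symm_apply_apply, φ.symm_apply_apply]
      exact hh _ _
    · intro hh u v
      have h1 := hh (φ u) (φ v)
      rw [polar_tq, polar_tq, cj_apply', cj_apply', φ.symm_apply_apply, φ.symm_apply_apply, φ.symm_apply_apply,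
        φ.symm_apply_apply] at h1
      exact h1
  rcases five_of hKS hm hq φ hr hl with h | h
  · exact Or.inl (red_abs φ h)
  right
  rcases sp_core h2 (by rw [Fintype.card_fin]; exact hten) hQ'' (by
    rintro _ ⟨x, hx, rfl⟩
    exact (hpres x).1 (hH x hx)) h with ⟨s, K, hs, hsd, hK, hle⟩ | h | ⟨Q₁, hQ₁, hp, h⟩
  · exact Or.inl ⟨s, hs, hsd, n, φ, K, hs, hK, hle⟩
  · right; left
    intro x hx
    obtain ⟨y, hy, hyx⟩ := h (cj φ x) ((hpres x).1 hx)
    have : y = x := (cj φ).injective hyx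
    rw [← this]
    exact hy
  · right; right
    let Q₂ : QuadraticForm F V := (H884.OmegaGL.bundle Q₁ hQ₁).comp (φ : V →ₗ[F] (Fin n → F))
    have hq : (⇑(tq Q₂ φ) : (Fin n → F) → F) = Q₁ := by
      funext v
      change Q₁ (φ (φ.symm v)) = Q₁ v
      rw [φ.apply_symm_apply]
    have hp2 : ∀ u v, polar Q₂ u v = polar Q u v := by
      intro u v
      have h1 := hp (φ u) (φ v)
      have e1 : polar Q₂ u v = polar Q₁ (φ u) (φ v) := by
        change Q₁ (φ (u + v)) - Q₁ (φ u) - Q₁ (φ v) = Q₁ (φ u + φ v) - Q₁ (φ u) - Q₁ (φ v)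
        rw [map_add]
      rw [e1, h1, polar_tq, φ.symm_apply_apply, φ.symm_apply_apply]
    refine ⟨Q₂, hp2, E_le_of φ (by rw [Fintype.card_fin]; omega) (by rw [hq]; exact hQ₁) (by rw [hq]; exact h)⟩

end abs

end Cfsg.Agent.H128.Rg
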