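import Cfsg.Agent.H449.Reg.Abs
import Cfsg.Agent.H449.Reg.Pre
import Cfsg.Agent.H370.Rg.Zsig

/-!
# S3691 (T1): the list lemma for symplectic spaces of characteristic two

* `symp_prop` : two symplectic forms, the isometries of the second preserve the first: proportional
* `unit_symp_false` : the determinant-one isometries of a unitary form do not preserve a symplectic form
* `sp_iso`, `sp_abs` : the list lemma (matrices, coordinate free)
-/

set_option autoImplicit false
set_option linter.unusedSectionVars false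

namespace Cfsg.Agent.H128.Rg

open Module QuadraticMap Cfsg Cfsg.Geo Matrix Cfsg.Agent.LieClassical.OrthCore Cfsg.Agent.LieClassical.OrthTrans
  Cfsg.Agent.H955 Cfsg.Agent.H954.TSing Cfsg.Agent.H884.El Cfsg.Agent.H278.Cov Cfsg.Agent.H449.Reg
  Cfsg.Agent.H929 Cfsg.Agent.H873 Cfsg.Agent.H89.Cov
open Cfsg.Agent.H951 (fx cm Inv)
open Cfsg.Agent.LieClassical.OrthFinite (glEquiv glEquiv_apply)
open scoped MatrixGroups

universe u v

section Mat

variable {ι : Type} [Fintype ι] [DecidableEq ι] {F : Type u} [Field F]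

/-- **the isometries of a symplectic form preserve only its multiples** -/
theorem symp_prop [Nonempty ι] {f b : (ι → F) → (ι → F) → F} (hf : IsSymplecticForm f) (hb : IsSymplecticForm b)
    (h : ∀ x : GL ι F, FixesForm {(x : Matrix ι ι F)} f → FixesForm {(x : Matrix ι ι F)} b) :
    ∃ c : F, c ≠ 0 ∧ ∀ x y, b x y = c * f x y := by
  have hfb := hf.bilinear
  have hbb := hb.bilinear
  -- the transvections
  have key : ∀ w x y : ι → F, f x w * b w y = f y w * b w x := by
    intro w x y
    have hdot : ∀ u, cv f w ⬝ᵥ u = f u w := cv_dot hfb.add_left hfb.smul_left w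
    have h0 : cv f w ⬝ᵥ w = 0 := by rw [hdot, hf.alternating]
    have h1 : FixesForm {(tv w (cv f w) h0 : Matrix ι ι F)} f := by
      rw [fixesForm_singleton]
      intro u v
      rw [tv_mulVec, tv_mulVec, hdot, hdot, hfb.add_left, hfb.add_right, hfb.add_right, hfb.smul_left, hfb.smul_left,
        hfb.smul_right, hfb.smul_right, hf.alternating, hf.skew w v]
      ring
    have h2 := h _ h1
    rw [fixesForm_singleton] at h2
    have h3 := h2 x y
    rw [tv_mulVec, tv_mulVec, hdot, hdot, hbb.add_left, hbb.add_right, hbb.add_right, hbb.smul_left, hbb.smul_left,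
      hbb.smul_right, hbb.smul_right, hb.alternating, hb.skew x w] at h3
    linear_combination h3
  -- the scalar of a vector
  have hc : ∀ w : ι → F, w ≠ 0 → ∃ c : F, ∀ x, b w x = c * f w x := by
    intro w hw
    obtain ⟨y, hy⟩ := (hf.nondegenerate w hw).1
    refine ⟨-(b w y / f y w), fun x => ?_⟩
    have h1 := key w x y
    rw [hf.skew w x]
    field_simp
    linear_combination -h1
  obtain ⟨i⟩ := ‹Nonempty ι›
  set w₀ : ι → F := Pi.single i 1 with hw₀
  have hw₀0 : w₀ ≠ 0 := by
    intro h0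
    have := congrFun h0 i
    simp [hw₀] at this
  obtain ⟨c, hc0⟩ := hc w₀ hw₀0
  -- vectors not orthogonal to `w₀`
  have hA : ∀ x : ι → F, f w₀ x ≠ 0 → ∀ y, b x y = c * f x y := by
    intro x hx
    have hx0 : x ≠ 0 := by
      rintro rfl
      apply hx
      have := hfb.smul_right 0 w₀ 0
      rwa [zero_smul, zero_mul] at this
    obtain ⟨d, hd⟩ := hc x hx0
    have h1 := hc0 x
    have h2 := hd w₀
    rw [hb.skew, hf.skew x w₀] at h2
    have h3 : (c - d) * f w₀ x = 0 := by linear_combination -h1 - h2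
    have h4 : c = d := sub_eq_zero.1 ((mul_eq_zero.1 h3).resolve_right hx)
    rw [h4]
    exact hd
  obtain ⟨z, hz⟩ := (hf.nondegenerate w₀ hw₀0).2
  have hall : ∀ x y, b x y = c * f x y := by
    intro x y
    by_cases hx : f w₀ x = 0
    · have h1 := hA z hz y
      have h2 := hA (x + z) (by rw [hfb.add_right, hx, zero_add]; exact hz) y
      rw [hbb.add_left, hfb.add_left] at h2
      linear_combination h2 - h1
    · exact hA x hx y
  refine ⟨c, ?_, hall⟩
  rintro rfl
  obtain ⟨y, hy⟩ := (hb.nondegenerate w₀ hw₀0).2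
  exact hy (by rw [hall, zero_mul])

/-- **the determinant-one isometries of a unitary form do not preserve a symplectic form** -/
theorem unit_symp_false [Finite F] (hn : 3 ≤ Fintype.card ι) {b : (ι → F) → (ι → F) → F} (hb : IsSymplecticForm b)
    {σ : F ≃+* F} {f : (ι → F) → (ι → F) → F} (hf : IsUnitaryForm σ f)
    (h : ∀ x : GL ι F, FixesForm {(x : Matrix ι ι F)} f → Matrix.GeneralLinearGroup.det x = 1 →
      FixesForm {(x : Matrix ι ι F)} b) : False := by
  have hB := hb.bilinear
  have hF := Herm.of_unitary hf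
  obtain ⟨e, he0, he⟩ := exists_trace_zero hf.involutive hf.ne_refl
  -- the transvections
  have key : ∀ w x y : ι → F, f w w = 0 → f x w * b w y = f y w * b w x := by
    intro w x y hw
    have hdot : ∀ u, cv f w ⬝ᵥ u = f u w := cv_dot hf.add_left hf.smul_left w
    have h0 : cv f w ⬝ᵥ (e • w) = 0 := by rw [hdot, hf.smul_left, hw, mul_zero]
    have h1 : FixesForm {(tv (e • w) (cv f w) h0 : Matrix ι ι F)} f := by
      rw [fixesForm_singleton]
      intro x y
      rw [tv_mulVec, tv_mulVec, hdot, hdot, hF.add_left, hF.add_right, hF.add_right,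
        hF.smul_left, hF.smul_left, hF.smul_left, hF.smul_left, hF.smul_right, hF.smul_right,
        hF.smul_right, hF.smul_right, hw, he, hF.herm w y]
      ring
    have hdet : Matrix.GeneralLinearGroup.det (tv (e • w) (cv f w) h0) = 1 := by
      have h2 := tv_mem_specialLinear _ _ h0
      rw [mem_specialLinear_iff] at h2
      apply Units.ext
      exact h2
    have h3 := h _ h1 hdet
    rw [fixesForm_singleton] at h3
    have h4 := h3 x y
    rw [tv_mulVec, tv_mulVec, hdot, hdot, hB.add_left, hB.add_right, hB.add_right, hB.smul_left, hB.smul_left,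
      hB.smul_right, hB.smul_right, hB.smul_left, hB.smul_left, hB.smul_right, hB.smul_right, hb.alternating,
      hb.skew x w] at h4
    have h5 : e * (f x w * b w y - f y w * b w x) = 0 := by linear_combination h4
    have h6 := (mul_eq_zero.1 h5).resolve_left he0
    linear_combination h6
  have hc : ∀ w : ι → F, w ≠ 0 → f w w = 0 → ∃ c : F, ∀ x, b w x = c * f x w := by
    intro w hw0 hw
    obtain ⟨y, hy⟩ := (hf.nondegenerate w hw0).1
    refine ⟨b w y / f y w, fun x => ?_⟩
    have h1 := key w x y hw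
    field_simp
    linear_combination -h1
  -- a hyperbolic pair
  obtain ⟨i⟩ : Nonempty ι := Fintype.card_pos_iff.1 (by omega)
  have hi0 : (Pi.single i 1 : ι → F) ≠ 0 := by
    intro h0
    have := congrFun h0 i
    simp at this
  have h2' : ∀ v ∈ (⊤ : Submodule F (ι → F)), ∃ x ∈ (⊤ : Submodule F (ι → F)), ∀ c : F, x ≠ c • v := by
    intro v _
    obtain ⟨x, hx⟩ := exists_not_smul (by omega : 2 ≤ Fintype.card ι) v
    exact ⟨x, trivial, hx⟩
  have hnd' : ∀ x ∈ (⊤ : Submodule F (ι → F)), x ≠ 0 → ∃ y ∈ (⊤ : Submodule F (ι → F)), f x y ≠ 0 := by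
    intro x _ hx
    obtain ⟨y, hy⟩ := (hf.nondegenerate x hx).2
    exact ⟨y, trivial, hy⟩
  obtain ⟨u, -, huu, hu⟩ := hF.exists_isotropic_not_orth hf.ne_refl ⊤ hnd' h2' (v := Pi.single i 1) trivial hi0
  have hu0 : u ≠ 0 := by
    rintro rfl
    rw [hF.zero_right] at hu
    exact hu rfl
  obtain ⟨v, -, hvv, huv⟩ := hF.exists_hyperbolic hf.ne_refl ⊤ hnd' trivial hu0 huu
  have hvu : f v u = 1 := by rw [hf.herm, huv, map_one]
  have hv0 : v ≠ 0 := by
    rintro rfl
    rw [hF.zero_right] at huv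
    exact zero_ne_one huv
  -- the perp of the pair
  let H : Submodule F (ι → F) :=
    { carrier := {x | f x u = 0 ∧ f x v = 0}
      add_mem' := fun {a b} ha hb => ⟨by rw [hf.add_left, ha.1, hb.1, add_zero], by rw [hf.add_left, ha.2, hb.2, add_zero]⟩
      zero_mem' := ⟨hF.zero_left u, hF.zero_left v⟩
      smul_mem' := fun c a ha => ⟨by rw [hf.smul_left, ha.1, mul_zero], by rw [hf.smul_left, ha.2, mul_zero]⟩ }
  have hproj : ∀ y : ι → F, y - f y v • u - f y u • v ∈ H := by
    intro y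
    refine ⟨?_, ?_⟩
    · rw [hF.sub_left, hF.sub_left, hF.smul_left, hF.smul_left, huu, hvu]; ring
    · rw [hF.sub_left, hF.sub_left, hF.smul_left, hF.smul_left, huv, hvv]; ring
  have hndH : ∀ x ∈ H, x ≠ 0 → ∃ y ∈ H, f x y ≠ 0 := by
    intro x hx hx0
    obtain ⟨y, hy⟩ := (hf.nondegenerate x hx0).2
    refine ⟨_, hproj y, ?_⟩
    rw [hF.sub_right, hF.sub_right, hF.smul_right, hF.smul_right, hx.1, hx.2]
    simpa using hy
  obtain ⟨y, hy⟩ := H558.Cov.exists_not_mem_span2 hn u v
  set z := y - f y v • u - f y u • v with hz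
  have hz0 : z ≠ 0 := by
    intro h0
    apply hy (f y v) (f y u)
    rw [hz] at h0
    rw [← sub_eq_zero, ← h0]
    abel
  obtain ⟨r, ⟨hru, hrv⟩, hrr⟩ := hF.exists_nonisotropic hf.ne_refl H hndH (hproj y) hz0
  have hur : f u r = 0 := by rw [hf.herm, hru, map_zero]
  have hvr : f v r = 0 := by rw [hf.herm, hrv, map_zero]
  obtain ⟨t₁, ht₁⟩ := exists_trace_one hf.involutive hf.ne_refl
  set t := -(f r r) * t₁ with ht
  have htt : t + σ t = - f r r := by
    rw [ht, map_mul, map_neg, hF.self_fixed]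
    linear_combination (-(f r r)) * ht₁
  have p1 : f (v + r + t • u) (v + r + t • u) = 0 := by
    simp only [hF.add_left, hF.add_right, hF.smul_left, hF.smul_right, huu, hvv, huv, hvu, hru, hrv, hur, hvr]
    linear_combination htt
  have p2 : f u (v + r + t • u) = 1 := by
    rw [hF.add_right, hF.add_right, hF.smul_right, huv, hur, huu]; ring
  have p2' : f (v + r + t • u) u = 1 := by rw [hf.herm, p2, map_one]
  have p3 : v + r + t • u ≠ 0 := by
    intro h0
    rw [h0, hF.zero_right] at p2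
    exact zero_ne_one p2
  have p4 : f (v + r + t • u) v = t := by
    rw [hF.add_left, hF.add_left, hF.smul_left, hvv, hrv, huv]; ring
  have p4' : f v (v + r + t • u) = σ t := by rw [hf.herm, p4]
  obtain ⟨cu, hcu⟩ := hc u hu0 huu
  obtain ⟨cv', hcv⟩ := hc v hv0 hvv
  obtain ⟨cw, hcw⟩ := hc _ p3 p1
  have e1 : cu = -cv' := by
    have h1 := hcu v
    have h2 := hcv u
    rw [hvu] at h1
    rw [huv] at h2
    have h3 := hb.skew u v
    rw [h1, h2] at h3
    linear_combination h3
  have e2 : cu = -cw := by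
    have h1 := hcu (v + r + t • u)
    have h2 := hcw u
    rw [p2'] at h1
    rw [p2] at h2
    have h3 := hb.skew u (v + r + t • u)
    rw [h1, h2] at h3
    linear_combination h3
  have e3 : cv' * t = - (cw * σ t) := by
    have h1 := hcv (v + r + t • u)
    have h2 := hcw v
    rw [p4] at h1
    rw [p4'] at h2
    have h3 := hb.skew v (v + r + t • u)
    rw [h1, h2] at h3
    exact h3
  have e4 : cu * f r r = 0 := by
    have h1 : cv' = -cu := by rw [e1, neg_neg]
    have h2 : cw = -cu := by rw [e2, neg_neg]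
    rw [h1, h2] at e3
    linear_combination cu * htt + e3
  have e5 : cu = 0 := (mul_eq_zero.1 e4).resolve_right hrr
  obtain ⟨y', hy'⟩ := (hb.nondegenerate u hu0).2
  exact hy' (by rw [hcu, e5, zero_mul])

/-- the polar form is symplectic in characteristic two -/
theorem symp_polar (h2 : (2 : F) = 0) {Q : (ι → F) → F} (hQ : IsNondegenerateQuadraticForm Q) :
    IsSymplecticForm (polar Q) := by
  have hneg : ∀ a : F, -a = a := fun a => by linear_combination (-a) * h2
  refine ⟨hQ.polar_bilinear, fun v w => ?_, fun v => ?_, hQ.nondegenerate⟩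
  · rw [polar_comm, hneg]
  · have h1 : Q (v + v) = 2 ^ 2 * Q v := by rw [← two_smul F v, hQ.smul]
    rw [polar, h1, h2]
    linear_combination (-Q v) * h2

/-- **the list lemma for groups preserving the polar form** -/
theorem sp_iso (hP : H659.CovCore.S5948Stmt.{u}) [Fintype F] (h2 : (2 : F) = 0) {k : ℕ} {Q : (ι → F) → F}
    (hQ : IsNondegenerateQuadraticForm Q) {H : Subgroup (GL ι F)}
    (hmem : ∀ x ∈ H, ∀ u v, polar Q ((x : Matrix ι ι F) *ᵥ u) ((x : Matrix ι ι F) *ᵥ v) = polar Q u v)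
    {g : GL ι F} (hg : g ∈ H)
    (hnum : Num (Fintype.card F) (Fintype.card ι) k (orderOf g)) :
    Red H ∨ Ext (Nat.gcd (Fintype.card ι) k) H ∨
      (∀ x : GL ι F, (∀ u v, polar Q ((x : Matrix ι ι F) *ᵥ u) ((x : Matrix ι ι F) *ᵥ v) = polar Q u v) → x ∈ H) ∨
      (∃ Q' : (ι → F) → F, IsNondegenerateQuadraticForm Q' ∧ (∀ u v, polar Q' u v = polar Q u v) ∧ omegaGL Q' ≤ H) := by
  have hten := hnum.ten
  have hone : Nonempty ι := Fintype.card_pos_iff.1 (by omega)
  have hB := symp_polar h2 hQ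
  by_cases hred : Red H
  · exact Or.inl hred
  right
  rcases H659.CovCore.core hP hg hnum hred with h | h | ⟨f', hf', h⟩ | ⟨τ, f', hf', h⟩ | ⟨Q', hQ', h⟩
  · exact Or.inl h
  · exfalso
    refine H905.not_sl_le_similarityGroup_symplectic (by omega) hB fun x hx => ?_
    exact ⟨1, fun u v => by rw [Units.val_one, one_mul]; exact hmem x (h hx) u v⟩
  · right; left
    obtain ⟨c, hc0, hc⟩ := symp_prop hf' hB fun x hx => fixesForm_singleton.2 (hmem x (h x hx))
    intro x hx
    apply h
    rw [fixesForm_singleton]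
    intro u v
    have h1 := hx u v
    rw [hc, hc] at h1
    exact mul_left_cancel₀ hc0 h1
  · exact (unit_symp_false (by omega) hB hf' fun x hx hd => fixesForm_singleton.2 (hmem x (h x hx hd))).elim
  · right; right
    have h1 : FixesForm (matrixSet (omegaGL Q')) (polar Q) := by
      rintro _ ⟨x, hx, rfl⟩ u v
      exact hmem x (h hx) u v
    have h3 : FixesForm (matrixSet (omegaGL Q')) (polar Q') := H914.fixesForm_polar (H925.Nat.omegaGL_fixes Q')
    obtain ⟨c, hc⟩ := H920.form_unique (H925.Nat.omegaGL_absIrr hQ' (by omega)) hQ'.polar_bilinear hQ'.nondegenerate h3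
      hQ.polar_bilinear h1
    have hc0 : c ≠ 0 := by
      rintro rfl
      obtain ⟨i⟩ := hone
      have hne : (Pi.single i 1 : ι → F) ≠ 0 := by
        intro h0
        have := congrFun h0 i
        simp at this
      obtain ⟨⟨x, hx⟩, -⟩ := hQ.nondegenerate _ hne
      exact hx (by rw [hc, zero_mul])
    have hp : ∀ u v, polar (fun v => c * Q' v) u v = c * polar Q' u v := by
      intro u v
      simp only [polar]
      ring
    refine ⟨fun v => c * Q' v, ⟨fun a v => by rw [hQ'.smul]; ring, ⟨?_, ?_, ?_, ?_⟩, ?_⟩, fun u v => by rw [hp, hc], ?_⟩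
    · intro x y v
      rw [hp, hp, hp, hQ'.polar_bilinear.add_left]; ring
    · intro a x v
      rw [hp, hp, hQ'.polar_bilinear.smul_left]; ring
    · intro v x y
      rw [hp, hp, hp, hQ'.polar_bilinear.add_right]; ring
    · intro a v x
      rw [hp, hp, hQ'.polar_bilinear.smul_right]; ring
    · intro v hv
      obtain ⟨⟨x, hx⟩, ⟨y, hy⟩⟩ := hQ'.nondegenerate v hv
      exact ⟨⟨x, by rw [hp]; exact mul_ne_zero hc0 hx⟩, ⟨y, by rw [hp]; exact mul_ne_zero hc0 hy⟩⟩
    · rw [H925.Nat.omegaGL_smul hc0 fun v => rfl]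
      exact h

end Mat

section abs

variable {F : Type u} [Field F] [Fintype F] {V : Type v} [AddCommGroup V] [Module F V] [FiniteDimensional F V]
  {Q : QuadraticForm F V} {H A : Subgroup (V ≃ₗ[F] V)}

/-- Siegel elements from matrices -/
theorem E_le_of {n : ℕ} (φ : V ≃ₗ[F] (Fin n → F)) (hn5 : 5 ≤ Fintype.card (Fin n))
    (hQ'' : IsNondegenerateQuadraticForm (⇑(tq Q φ))) (h : omegaGL (⇑(tq Q φ)) ≤ H.map (cj φ).toMonoidHom) :
    E Q ≤ H := by
  rw [E, Subgroup.closure_le]
  rintro _ ⟨u, w, hu, hw, rfl⟩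
  have hu' : (H884.OmegaGL.bundle (⇑(tq Q φ)) hQ'') (φ u) = 0 := by
    change Q (φ.symm (φ u)) = 0
    rw [φ.symm_apply_apply, hu]
  have hw' : polar (H884.OmegaGL.bundle (⇑(tq Q φ)) hQ'') (φ u) (φ w) = 0 := by
    change polar (tq Q φ) (φ u) (φ w) = 0
    rw [polar_tq, φ.symm_apply_apply, φ.symm_apply_apply, hw]
  have h1 : cj φ (siegel Q u w hu hw) ∈ omegaGL (⇑(tq Q φ)) := by
    rw [H884.OmegaGL.mem_omegaGL _ hQ'' hn5]
    have h2 : glEquiv (Fin n) F (cj φ (siegel Q u w hu hw)) = siegel _ (φ u) (φ w) hu' hw' := by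
      apply LinearEquiv.ext
      intro v
      rw [glEquiv_apply, siegel_apply, cj_apply, siegel_apply, map_sub, map_sub, map_add, map_smul, map_smul, map_smul,
        φ.apply_symm_apply]
      have e1 : ∀ a b : V, polar (H884.OmegaGL.bundle (⇑(tq Q φ)) hQ'') (φ a) (φ b) = polar Q a b := by
        intro a b
        change polar (tq Q φ) (φ a) (φ b) = _
        rw [polar_tq, φ.symm_apply_apply, φ.symm_apply_apply]
      have e2 : (H884.OmegaGL.bundle (⇑(tq Q φ)) hQ'') (φ w) = Q w := by
        change Q (φ.symm (φ w)) = _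
        rw [φ.symm_apply_apply]
      have e3 : v = φ (φ.symm v) := (φ.apply_symm_apply v).symm
      rw [e2]
      conv_rhs => rw [e3, e1, e1]
      rw [φ.apply_symm_apply]
    rw [h2]
    exact siegel_mem_E hu' hw'
  obtain ⟨x, hx, hxe⟩ := h h1
  have : x = siegel Q u w hu hw := (cj φ).injective hxe
  rw [← this]
  exact hx

/-- (T1) **the list lemma for symplectic spaces of characteristic 2** -/
theorem sp_abs (hP : H659.CovCore.S5948Stmt.{u}) (h2 : (2 : F) = 0) (hQ : Nondeg Q)
    (hH : ∀ h ∈ H, ∀ u v, polar Q (h u) (h v) = polar Q u v)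
    {g : V ≃ₗ[F] V} (hg : g ∈ H) {k : ℕ} (hnum : Num (Fintype.card F) (finrank F V) k (orderOf g)) :
    (∃ W : Submodule F V, W ≠ ⊥ ∧ W ≠ ⊤ ∧ ∀ h ∈ H, ∀ w ∈ W, h w ∈ W) ∨
    (∃ s, s.Prime ∧ s ∣ Nat.gcd (finrank F V) k ∧ AExt s H) ∨
    (∀ x : V ≃ₗ[F] V, (∀ u v, polar Q (x u) (x v) = polar Q u v) → x ∈ H) ∨
    (∃ Q' : QuadraticForm F V, (∀ u v, polar Q' u v = polar Q u v) ∧ E Q' ≤ H) := by
  set n := finrank F V with hn
  let φ : V ≃ₗ[F] (Fin n → F) := LinearEquiv.ofFinrankEq _ _ (by rw [Module.finrank_fintype_fun_eq_card, Fintype.card_fin])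
  have hQ' := nondeg_tq hQ φ
  have hQ'' := H884.OddForm.isNondegenerate_of_nondeg _ hQ'
  have ho : orderOf (cj φ g) = orderOf g := MulEquiv.orderOf_eq _ g
  have hten := hnum.ten
  have hpres : ∀ h : V ≃ₗ[F] V, (∀ u v, polar Q (h u) (h v) = polar Q u v) ↔
      ∀ u v, polar (⇑(tq Q φ)) ((cj φ h : Matrix (Fin n) (Fin n) F) *ᵥ u) ((cj φ h : Matrix (Fin n) (Fin n) F) *ᵥ v) =
        polar (⇑(tq Q φ)) u v := by
    intro h
    constructor
    · intro hh u v
      rw [polar_tq, polar_tq, cj_apply, cj_apply, φ.symm_apply_apply, φ.symm_apply_apply]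
      exact hh _ _
    · intro hh u v
      have h1 := hh (φ u) (φ v)
      rw [polar_tq, polar_tq, cj_apply', cj_apply', φ.symm_apply_apply, φ.symm_apply_apply, φ.symm_apply_apply,
        φ.symm_apply_apply] at h1
      exact h1
  rcases sp_iso hP h2 (k := k) hQ'' (H := H.map (cj φ).toMonoidHom) (by
    rintro _ ⟨x, hx, rfl⟩
    exact (hpres x).1 (hH x hx)) (g := cj φ g) ⟨g, hg, rfl⟩
    (by rw [ho, Fintype.card_fin]; exact hnum) with ⟨W, hW0, hW1, hW⟩ | ⟨s, K, hs, hsd, hK, hle⟩ | h | ⟨Q₁, hQ₁, hp, h⟩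
  · left
    refine ⟨W.comap (φ : V →ₗ[F] (Fin n → F)), ?_, ?_, ?_⟩
    · intro h0
      apply hW0
      rw [Submodule.eq_bot_iff]
      intro w hw
      have : φ.symm w ∈ W.comap (φ : V →ₗ[F] (Fin n → F)) := by
        change φ (φ.symm w) ∈ W
        rwa [φ.apply_symm_apply]
      rw [h0, Submodule.mem_bot] at this
      rw [← φ.apply_symm_apply w, this, map_zero]
    · intro h0
      apply hW1
      rw [eq_top_iff]
      intro w _
      have : φ.symm w ∈ W.comap (φ : V →ₗ[F] (Fin n → F)) := by rw [h0]; trivial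
      have h1 : φ (φ.symm w) ∈ W := this
      rwa [φ.apply_symm_apply] at h1
    · intro h hh w hw
      have h1 : cj φ h ∈ subspaceStabilizer W := hW ⟨h, hh, rfl⟩
      have h2 : (cj φ h : Matrix (Fin n) (Fin n) F) *ᵥ φ w ∈ W := (h1 (φ w)).1 hw
      rw [cj_apply'] at h2
      exact h2
  · right; left
    rw [Fintype.card_fin] at hsd
    exact ⟨s, hs, hsd, n, φ, K, hs, hK, hle⟩
  · right; right; left
    intro x hx
    obtain ⟨y, hy, hyx⟩ := h (cj φ x) ((hpres x).1 hx)
    have : y = x := (cj φ).injective hyx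
    rw [← this]
    exact hy
  · right; right; right
    let Q₂ : QuadraticForm F V := (H884.OmegaGL.bundle Q₁ hQ₁).comp (φ : V →ₗ[F] (Fin n → F))
    have hq : (⇑(tq Q₂ φ) : (Fin n → F) → F) = Q₁ := by
      funext v
      change Q₁ (φ (φ.symm v)) = Q₁ v
      rw [φ.apply_symm_apply]
    have hp2 : ∀ u v, polar Q₂ u v = polar Q u v := by
      intro u v
      have h1 := hp (φ u) (φ v)
      have e1 : polar Q₂ u v = polar Q₁ (φ u) (φ v) := by
        change Q₁ (φ (u + v)) - Q₁ (φ u) - Q₁ (φ v) = Q₁ (φ u + φ v) - Q₁ (φ u) - Q₁ (φ v)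
        rw [map_add]
      rw [e1, h1, polar_tq, φ.symm_apply_apply, φ.symm_apply_apply]
    refine ⟨Q₂, hp2, E_le_of φ (by rw [Fintype.card_fin]; omega) (by rw [hq]; exact hQ₁) (by rw [hq]; exact h)⟩

end abs

end Cfsg.Agent.H128.Rg
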